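import Cfsg.Agent.H684.GW.Fld
import Cfsg.Agent.H684.GW.Norm
import Cfsg.Agent.H748.GW.DimFix

/-!
# Gluck-Wolf, the counting inequality: fixed vectors of an element of order `p` (helper684)

* `fix_lin` : linear case.  * `fix_semi` : semilinear case.
-/

set_option autoImplicit false
set_option linter.unusedSectionVars false

open scoped commutatorElement
open Module

namespace Cfsg.Agent.H684.GW

open Cfsg.Agent.H662.GW

universe u v

/-- automorphisms of a finite field commute -/
theorem aut_comm {F : Type*} [Field F] [Finite F] (σ τ : F ≃+* F) (c : F) : σ (τ c) = τ (σ c) := by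
  by_cases hc : c = 0
  · rw [hc, map_zero, map_zero, map_zero]
  obtain ⟨a, ha⟩ := MonoidHom.map_cyclic (Units.map (σ : F →* F))
  obtain ⟨b, hb⟩ := MonoidHom.map_cyclic (Units.map (τ : F →* F))
  have h1 : Units.map (σ : F →* F) (Units.map (τ : F →* F) (Units.mk0 c hc)) =
      Units.map (τ : F →* F) (Units.map (σ : F →* F) (Units.mk0 c hc)) := by
    rw [ha, hb, ha, hb, ← zpow_mul, ← zpow_mul, mul_comm]
  exact congrArg Units.val h1

/-- conjugate elements are semilinear with the same automorphism -/
theorem semi_conj {G : Type v} {W F : Type u} [Group G] [AddCommGroup W] [DistribMulAction G W] [Field F] [Finite F]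
    [Module F W] {L : Subgroup G} (D : FD (W := W) F L) {x : G} {σ : F ≃+* F}
    (hσ : ∀ (c : F) (w : W), x • (c • w) = σ c • (x • w)) (g : G) (c : F) (w : W) :
    (g * x * g⁻¹) • (c • w) = σ c • ((g * x * g⁻¹) • w) := by
  obtain ⟨τ, hτ⟩ := D.semi g
  have h1 : ∀ (c : F) (w : W), g⁻¹ • (c • w) = τ.symm c • (g⁻¹ • w) := by
    intro c w
    rw [inv_smul_eq_iff, hτ, smul_inv_smul, τ.apply_symm_apply]
  rw [mul_smul, mul_smul, h1, hσ, hτ, mul_smul, mul_smul, aut_comm τ σ, τ.apply_symm_apply]

/-- the powers of a semilinear element -/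
theorem semi_pow {G : Type v} {W F : Type u} [Group G] [AddCommGroup W] [DistribMulAction G W] [Field F]
    [Module F W] {x : G} {σ : F ≃+* F}
    (hσ : ∀ (c : F) (w : W), x • (c • w) = σ c • (x • w)) (k : ℕ) (c : F) (w : W) :
    x ^ k • (c • w) = (σ ^ k : F ≃+* F) c • (x ^ k • w) := by
  induction k generalizing c w with
  | zero => rw [pow_zero, pow_zero, one_smul, one_smul]; rfl
  | succ k ih => rw [pow_succ, pow_succ, mul_smul, hσ, ih, mul_smul]; rfl

/-- the powers of a multiple of a semilinear element -/
theorem semi_smul_pow {G : Type v} {W F : Type u} [Group G] [AddCommGroup W] [DistribMulAction G W] [Field F]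
    [Module F W] {x y : G} {σ : F ≃+* F} (hσ : ∀ (c : F) (w : W), x • (c • w) = σ c • (x • w)) {c : F}
    (hy : ∀ w : W, y • w = c • x • w) (k : ℕ) (w : W) :
    y ^ k • w = (∏ i ∈ Finset.range k, (σ ^ i : F ≃+* F) c) • (x ^ k • w) := by
  induction k generalizing w with
  | zero => rw [pow_zero, pow_zero, Finset.prod_range_zero, one_smul, one_smul]
  | succ k ih =>
    rw [pow_succ, mul_smul, hy, ih, semi_pow hσ, pow_succ, mul_smul, Finset.prod_range_succ, mul_smul]

section Orb

variable {U Y : Type*} [Group Y] [Finite Y] [AddCommGroup U] [Finite U] [DistribMulAction Y U]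

/-- the number of orbits of a group of order `p` -/
theorem card_orb {p : ℕ} (hp : p.Prime) {y : Y} (hy : y ^ p = 1) :
    p * Nat.card (MulAction.orbitRel.Quotient (Subgroup.zpowers y) U) ≤
      Nat.card U + (p - 1) * Nat.card {u : U // y • u = u} := by
  classical
  have := Fintype.ofFinite U
  have := Fintype.ofFinite Y
  have := Fintype.ofFinite (MulAction.orbitRel.Quotient (Subgroup.zpowers y) U)
  by_cases hy1 : y = 1
  · have h1 : Nat.card {u : U // y • u = u} = Nat.card U := by
      apply Nat.card_congr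
      exact Equiv.subtypeUnivEquiv (fun u => by rw [hy1, one_smul])
    rw [h1]
    have h2 : Nat.card (MulAction.orbitRel.Quotient (Subgroup.zpowers y) U) ≤ Nat.card U :=
      Nat.card_le_card_of_surjective (Quotient.mk'') Quotient.mk''_surjective
    have h3 := hp.one_lt
    calc _ ≤ p * Nat.card U := Nat.mul_le_mul_left _ h2
      _ = _ := by obtain ⟨k, rfl⟩ : ∃ k, p = k + 1 := ⟨p - 1, by omega⟩; rw [Nat.add_sub_cancel]; ring
  have hord : orderOf y = p := by
    have := Fact.mk hp
    exact orderOf_eq_prime hy hy1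
  have h1 := MulAction.sum_card_fixedBy_eq_card_orbits_mul_card_group (Subgroup.zpowers y) U
  have h2 : Fintype.card (Subgroup.zpowers y) = p := by
    rw [Fintype.card_zpowers, hord]
  rw [h2, mul_comm, ← Nat.card_eq_fintype_card] at h1
  rw [← h1, ← Finset.sum_erase_add _ _ (Finset.mem_univ (1 : Subgroup.zpowers y)), add_comm]
  apply Nat.add_le_add
  · rw [Nat.card_eq_fintype_card]
    exact Fintype.card_le_of_injective Subtype.val Subtype.val_injective
  · have h3 : ∀ g ∈ Finset.univ.erase (1 : Subgroup.zpowers y), Fintype.card (MulAction.fixedBy U g) ≤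
        Nat.card {u : U // y • u = u} := by
      intro g hg
      have hg1 := (Finset.mem_erase.1 hg).1
      rw [Nat.card_eq_fintype_card]
      refine Fintype.card_le_of_injective (fun u => ⟨u.1, ?_⟩) ?_
      · have h4 : y ∈ Subgroup.zpowers (g : Y) := by
          have h5 : Nat.card (Subgroup.zpowers y) = p := by rw [Nat.card_zpowers, hord]
          have h6 := mem_zpowers_of_prime_card (p := p) (hp := ⟨hp⟩) h5 hg1 (g' := ⟨y, Subgroup.mem_zpowers y⟩)
          obtain ⟨k, hk⟩ := Subgroup.mem_zpowers_iff.1 h6
          exact Subgroup.mem_zpowers_iff.2 ⟨k, congrArg Subtype.val hk⟩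
        obtain ⟨k, hk⟩ := Subgroup.mem_zpowers_iff.1 h4
        have h5 : (g : Y) ∈ MulAction.stabilizer Y (u.1 : U) := u.2
        have h6 := (MulAction.stabilizer Y (u.1 : U)).zpow_mem h5 k
        rw [hk] at h6
        exact h6
      · intro a b hab
        have h4 : (a : U) = b := congrArg (fun z : {u : U // y • u = u} => (z : U)) hab
        exact Subtype.ext h4
    calc _ ≤ ∑ _g ∈ Finset.univ.erase (1 : Subgroup.zpowers y), Nat.card {u : U // y • u = u} :=
          Finset.sum_le_sum h3
      _ = _ := by
          rw [Finset.sum_const, Finset.card_erase_of_mem (Finset.mem_univ _), Finset.card_univ, h2, smul_eq_mul]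

end Orb

section LW

variable {p r s n : ℕ} {G : Type v} {W : Type u} {Y U : Type*} [Group G] [Finite G] [AddCommGroup W] [Finite W]
    [DistribMulAction G W] [Group Y] [Finite Y] [AddCommGroup U] [Finite U] [DistribMulAction Y U]
    {K L Z : Subgroup G} {π : G →* Y} {a : L →* Multiplicative U} (h : LW (W := W) p r s n K L Z π a)
    {F : Type u} [Field F] [Finite F] [Module F W] (D : FD (W := W) F L)

include h D

/-- the conjugate of an element of `L` -/
theorem op_conj (x : G) (u : U) : ∃ c : F, c ≠ 0 ∧ ∀ w : W,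
    x • (rep h u : G) • w = c • (rep h (π x • u) : G) • x • w := by
  have := h.nt
  have hm : x * (rep h u : G) * x⁻¹ ∈ L := h.nL.conj_mem _ (rep h u).2 x
  have h1 := h.equiv x (rep h u) (rep h u).2 hm
  have h2 : a ⟨x * (rep h u : G) * x⁻¹, hm⟩ = a (rep h (π x • u)) := by
    rw [a_rep h D]
    apply Multiplicative.toAdd.injective
    rw [h1]
    show π x • Multiplicative.toAdd (a (rep h u)) = _
    rw [a_rep h D]
    rfl
  obtain ⟨c, hc⟩ := op_of_a h D h2
  refine ⟨c, ?_, ?_⟩
  · rintro rfl
    rw [zero_smul] at hc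
    exact D.op_ne _ hc
  · intro w
    have h3 := LinearMap.congr_fun hc (x • w)
    rw [LinearMap.smul_apply, FD.op_apply, FD.op_apply] at h3
    rw [← h3]
    show x • (rep h u : G) • w = (x * (rep h u : G) * x⁻¹) • x • w
    rw [smul_smul, smul_smul, inv_mul_cancel_right]

/-- the dimension of the centralizer -/
theorem finrank_cent (g : Module.End F W) (hg : g ^ p = 1) {x : G} (hgx : ∀ w, g w = x • w) (hxp : x ^ p = 1) :
    p * finrank F (Subalgebra.centralizer F ({g} : Set (Module.End F W))) ≤
      Nat.card U + (p - 1) * Nat.card {u : U // π x • u = u} := by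
  classical
  have := Fintype.ofFinite U
  have := Fintype.ofFinite (MulAction.orbitRel.Quotient (Subgroup.zpowers (π x)) U)
  have hyp : π x ^ p = 1 := by rw [← map_pow, hxp, map_one]
  refine le_trans (Nat.mul_le_mul_left _ ?_) (card_orb h.hp hyp)
  have hg0 : g * g ^ (p - 1) = 1 := by
    rw [← pow_succ', Nat.sub_add_cancel h.hp.one_lt.le, hg]
  -- the relation between the coefficients
  have hrel : ∀ A : Module.End F W, g * A = A * g → ∀ u, (bas h D).repr A u = 0 → (bas h D).repr A (π x • u) = 0 := by
    intro A hA u hu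
    choose c hc0 hc using fun u => op_conj h D x u
    have h1 := (bas h D).sum_repr A
    have h2 : (∑ v, (bas h D).repr A v • (c v • D.op (rep h (π x • v)))) = A := by
      have h3 : (∑ v, (bas h D).repr A v • (c v • D.op (rep h (π x • v)))) * g = A * g := by
        rw [← hA]
        conv_rhs => rw [← h1]
        rw [Finset.mul_sum, Finset.sum_mul]
        apply Finset.sum_congr rfl
        intro v _
        rw [bas_apply, mul_smul_comm, smul_mul_assoc]
        congr 1
        ext w
        rw [Module.End.mul_apply, Module.End.mul_apply, LinearMap.smul_apply, FD.op_apply, FD.op_apply, hgx, hgx, hc]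
      have h4 := congrArg (fun B => B * g ^ (p - 1)) h3
      simp only [mul_assoc, hg0, mul_one] at h4
      exact h4
    have h5 : (bas h D).repr (∑ v, (bas h D).repr A v • (c v • D.op (rep h (π x • v)))) (π x • u) =
      (bas h D).repr A (π x • u) := by rw [h2]
    rw [← h5, map_sum, Finsupp.finsetSum_apply]
    apply Finset.sum_eq_zero
    intro v _
    have h7 : (bas h D).repr ((bas h D).repr A v • (c v • D.op (rep h (π x • v)))) =
        (bas h D).repr A v • (c v • Finsupp.single (π x • v) (1 : F)) := by
      rw [LinearEquiv.map_smul, LinearEquiv.map_smul, ← bas_apply h D, Basis.repr_self]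
    rw [h7, Finsupp.smul_apply, Finsupp.smul_apply]
    by_cases hvu : v = u
    · rw [hvu, hu, zero_smul]
    · rw [Finsupp.single_eq_of_ne, smul_zero, smul_zero]
      intro h6
      exact hvu (MulAction.injective (π x) h6.symm)
  let Φ : Subalgebra.centralizer F ({g} : Set (Module.End F W)) →ₗ[F]
      (MulAction.orbitRel.Quotient (Subgroup.zpowers (π x)) U → F) :=
    { toFun := fun A ω => (bas h D).repr (A : Module.End F W) ω.out
      map_add' := fun A B => by
        ext ω
        show (bas h D).repr ((A : Module.End F W) + (B : Module.End F W)) _ = _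
        rw [map_add]; rfl
      map_smul' := fun c A => by
        ext ω
        show (bas h D).repr (c • (A : Module.End F W)) _ = _
        rw [map_smul]; rfl }
  have hinj : Function.Injective Φ := by
    rw [← LinearMap.ker_eq_bot, LinearMap.ker_eq_bot']
    intro A hA
    have hcomm : g * (A : Module.End F W) = A * g := by
      have h1 := Subalgebra.mem_centralizer_iff F |>.1 A.2 g (Set.mem_singleton g)
      exact h1
    have h0 : ∀ u, (bas h D).repr (A : Module.End F W) u = 0 := by
      intro u
      let ω : MulAction.orbitRel.Quotient (Subgroup.zpowers (π x)) U := Quotient.mk'' u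
      have h1 : (bas h D).repr (A : Module.End F W) ω.out = 0 := congrFun hA ω
      have h2 : (Quotient.mk'' ω.out : MulAction.orbitRel.Quotient (Subgroup.zpowers (π x)) U) = Quotient.mk'' u :=
        Quotient.out_eq' ω
      have h3 : u ∈ MulAction.orbit (Subgroup.zpowers (π x)) ω.out := by
        rw [← MulAction.orbitRel_apply]
        exact (Quotient.eq''.1 h2.symm)
      obtain ⟨⟨y, hy⟩, hyu⟩ := h3
      rw [← mem_powers_iff_mem_zpowers] at hy
      obtain ⟨k, hk⟩ := hy
      have h4 : ∀ k : ℕ, (bas h D).repr (A : Module.End F W) ((π x) ^ k • ω.out) = 0 := by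
        intro k
        induction k with
        | zero => rw [pow_zero, one_smul]; exact h1
        | succ k ih => rw [pow_succ', mul_smul]; exact hrel _ hcomm _ ih
      have h5 : (π x) ^ k • ω.out = u := by
        rw [show (π x) ^ k = y from hk]; exact hyu
      rw [← h5]; exact h4 k
    apply Subtype.ext
    apply (bas h D).repr.injective
    ext u
    rw [h0 u]
    show _ = (bas h D).repr 0 u
    rw [map_zero]; rfl
  have h1 := LinearMap.finrank_le_finrank_of_injective hinj
  rw [Module.finrank_fintype_fun_eq_card] at h1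
  rw [Nat.card_eq_fintype_card]
  exact h1

/-- **the fixed vectors, linear case** -/
theorem fix_lin {x : G} (hxp : x ^ p = 1) (hlin : ∀ (c : F) (w : W), x • (c • w) = c • (x • w)) {j : ℕ} (_hj : j ≤ n)
    (hfix : Nat.card {u : U // π x • u = u} = s ^ (2 * (n - j))) :
    ∃ k, p * k ≤ s ^ n + (p - 1) * s ^ (n - j) ∧ Nat.card {w : W // x • w = w} = Nat.card F ^ k := by
  let g : Module.End F W :=
    { toFun := fun w => x • w
      map_add' := fun u w => smul_add _ u w
      map_smul' := fun c w => hlin c w }
  have hgx : ∀ w, g w = x • w := fun w => rfl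
  have hgk : ∀ k : ℕ, ∀ w, (g ^ k) w = x ^ k • w := by
    intro k
    induction k with
    | zero => intro w; rw [pow_zero, pow_zero, one_smul]; rfl
    | succ k ih => intro w; rw [pow_succ, pow_succ, Module.End.mul_apply, ih, mul_smul, hgx]
  have hg : g ^ p = 1 := by
    ext w
    rw [hgk, hxp, one_smul]; rfl
  have h1 := finrank_cent h D g hg hgx hxp
  rw [hfix, h.card] at h1
  have h2 := Cfsg.Agent.H748.GW.dim_fix (m := s ^ (n - j)) h.hp g hg (by
    rw [finrank_eq h D]
    calc _ ≤ _ := h1
      _ = _ := by rw [← pow_mul, ← pow_mul, mul_comm 2 n, mul_comm 2 (n - j)])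
  rw [finrank_eq h D] at h2
  refine ⟨finrank F (LinearMap.ker (g - 1)), h2, ?_⟩
  have h3 : Nat.card {w : W // x • w = w} = Nat.card (LinearMap.ker (g - 1)) := by
    apply Nat.card_congr
    apply Equiv.subtypeEquivRight
    intro w
    rw [LinearMap.mem_ker, LinearMap.sub_apply, sub_eq_zero]
    rfl
  rw [h3]
  exact Module.natCard_eq_pow_finrank

/-- **the fixed vectors and the norm, semilinear case** -/
theorem fix_semi {x : G} (hxp : x ^ p = 1) {σ : F ≃+* F} (hσ : ∀ (c : F) (w : W), x • (c • w) = σ c • (x • w))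
    (hσ1 : ∃ c, σ c ≠ c) {f : ℕ} (hf : Nat.card F = r ^ f) :
    ∃ f₀, 1 ≤ f₀ ∧ f = p * f₀ ∧ Nat.card {w : W // x • w = w} ≤ (r ^ f₀) ^ (s ^ n) ∧
      ∀ b : F, Nat.card {c : F // ∏ i ∈ Finset.range p, (σ ^ i : F ≃+* F) c = b} * (r ^ f₀ - 1) ≤ r ^ f - 1 := by
  have hnt := h.nt
  have hpow : ∀ k : ℕ, ∀ (c : F) (w : W), x ^ k • (c • w) = (σ ^ k : F ≃+* F) c • (x ^ k • w) := by
    intro k
    induction k with
    | zero => intro c w; rw [pow_zero, pow_zero, one_smul, one_smul]; rfl
    | succ k ih => intro c w; rw [pow_succ, pow_succ, mul_smul, hσ, ih, mul_smul]; rfl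
  have hσp : ∀ c : F, (σ ^ p : F ≃+* F) c = c := by
    intro c
    obtain ⟨w, hw⟩ := exists_ne (0 : W)
    have h1 := hpow p c w
    rw [hxp, one_smul, one_smul] at h1
    have h2 : (c - (σ ^ p : F ≃+* F) c) • w = 0 := by rw [sub_smul, ← h1, sub_self]
    exact (sub_eq_zero.1 ((smul_eq_zero.1 h2).resolve_right hw)).symm
  obtain ⟨S, hS, hcard, hnorm⟩ := exists_fixed h.hp σ hσp hσ1
  have hcS : ∃ f₀, 1 ≤ f₀ ∧ Nat.card S = r ^ f₀ := by
    have h0 := charP h D
    have : CharP S r := by
      have := (algebraMap S F).charP (algebraMap S F).injective r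
      exact this
    have := Fintype.ofFinite S
    have := Fact.mk h.hr
    obtain ⟨m, -, hm⟩ := FiniteField.card S r
    exact ⟨m, m.2, by rw [Nat.card_eq_fintype_card, hm]⟩
  obtain ⟨f₀, hf₀, hcS⟩ := hcS
  refine ⟨f₀, hf₀, ?_, ?_, ?_⟩
  · rw [hf, hcS, ← pow_mul] at hcard
    rw [Nat.pow_right_injective h.hr.two_le hcard, mul_comm]
  · have h1 := card_fix_le (x := DistribSMul.toAddMonoidHom W x) hσ S hS
    rw [finrank_eq h D, hcS] at h1
    exact h1
  · intro b
    rw [← hcS, ← hf]
    exact hnorm b

end LW

end Cfsg.Agent.H684.GW
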