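import Cfsg.Agent.Omega.NO1.Comp.Field
import Cfsg.Agent.H662.GW.Defs

/-!
# Gluck-Wolf, the counting inequality: the field of the irreducible normal subgroup (helper684)

`FD F L` : the additive endomorphisms of `W` that commute with `L` are the scalars of the finite field `F`, and the
elements of `G` act semilinearly.  For `LW` : the coset representatives of `Z` in `L` are an `F`-basis of `End F W`
(`basis`), `finrank F W = s ^ n`, `Nat.card F = r ^ f`, `s ∣ r ^ f - 1`; a linear map that permutes the lines of the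
basis trivially is a scalar times an element of `L` (`weight`).
-/

set_option autoImplicit false
set_option linter.unusedSectionVars false

open scoped commutatorElement
open Module

namespace Cfsg.Agent.H684.GW

open Cfsg.Agent.H662.GW

universe u v

/-- the field of an irreducible normal subgroup -/
structure FD {G : Type v} {W : Type u} (F : Type u) [Group G] [AddCommGroup W] [DistribMulAction G W] [Field F]
    [Module F W] (L : Subgroup G) : Prop where
  lin : ∀ l ∈ L, ∀ (c : F) (w : W), l • (c • w) = c • (l • w)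
  sch : ∀ f : W →+ W, (∀ l ∈ L, ∀ w, f (l • w) = l • f w) → ∃ c : F, ∀ w, f w = c • w
  semi : ∀ g : G, ∃ σ : F ≃+* F, ∀ (c : F) (w : W), g • (c • w) = σ c • (g • w)

section FD

variable {G : Type v} {W : Type u} [Group G] [AddCommGroup W] [DistribMulAction G W] {L : Subgroup G}

/-- the operators of `L` -/
def ops (W : Type u) [AddCommGroup W] [DistribMulAction G W] (L : Subgroup G) : Set (AddMonoid.End W) :=
  {f | ∃ y ∈ L, ∀ w, f w = y • w}

theorem mem_ops {y : G} (hy : y ∈ L) : DistribMulAction.toAddMonoidEnd G W y ∈ ops W L := ⟨y, hy, fun _ => rfl⟩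

theorem exists_FD [Finite W] [Nontrivial W] (hL : L.Normal)
    (irr : ∀ A : AddSubgroup W, (∀ l ∈ L, ∀ w ∈ A, l • w ∈ A) → A = ⊥ ∨ A = ⊤) :
    ∃ (F : Type u) (_ : Field F) (_ : Finite F) (_ : Module F W), FD (W := W) F L := by
  obtain ⟨F, i1, i2, i3, h1, h2, h3⟩ := Cfsg.Agent.Omega.NO1.Comp.exists_field (ops W L) (fun A hA =>
    irr A fun y hy w hw => hA _ (mem_ops hy) w hw)
  refine ⟨F, i1, i2, i3, fun y hy k v => h1 _ (mem_ops hy) k v, ?_, ?_⟩
  · intro f hf
    apply h2 f
    rintro s ⟨y, hy, hs⟩ v
    rw [hs, hs]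
    exact hf y hy v
  · intro x
    have key : ∀ x : G, ∀ s ∈ ops W L, ∃ s' ∈ Subring.closure (ops W L), ∀ v : W, s (x • v) = x • s' v := by
      rintro x s ⟨y, hy, hs⟩
      refine ⟨_, Subring.subset_closure (mem_ops (W := W) (y := x⁻¹ * y * x) ?_), fun v => ?_⟩
      · have h4 := hL.conj_mem y hy x⁻¹
        rwa [inv_inv] at h4
      · rw [hs]
        show y • x • v = x • ((x⁻¹ * y * x) • v)
        rw [smul_smul, smul_smul]
        congr 1
        group
    exact h3 (DistribMulAction.toAddEquiv W x) (key x) (key x⁻¹)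

variable {F : Type u} [Field F] [Module F W]

/-- the operators of `L` as linear maps -/
def FD.op (D : FD (W := W) F L) : L →* Module.End F W where
  toFun l :=
    { toFun := fun w => (l : G) • w
      map_add' := fun u w => smul_add _ u w
      map_smul' := fun c w => D.lin l l.2 c w }
  map_one' := by
    ext w
    show ((1 : L) : G) • w = w
    rw [Subgroup.coe_one, one_smul]
  map_mul' := by
    intro a b
    ext w
    show ((a * b : L) : G) • w = (a : G) • (b : G) • w
    rw [Subgroup.coe_mul, mul_smul]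

@[simp] theorem FD.op_apply (D : FD (W := W) F L) (l : L) (w : W) : D.op l w = (l : G) • w := rfl

theorem FD.op_mul_inv (D : FD (W := W) F L) (l : L) : D.op l * D.op l⁻¹ = 1 := by
  rw [← map_mul, mul_inv_cancel, map_one]

theorem FD.op_inv_mul (D : FD (W := W) F L) (l : L) : D.op l⁻¹ * D.op l = 1 := by
  rw [← map_mul, inv_mul_cancel, map_one]

theorem FD.op_ne [Nontrivial W] (D : FD (W := W) F L) (l : L) : D.op l ≠ 0 := by
  intro h0
  have h1 := D.op_mul_inv l
  rw [h0, zero_mul] at h1
  exact zero_ne_one h1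

/-- density -/
theorem FD.dens [Finite W] [Nontrivial W] (D : FD (W := W) F L)
    (irr : ∀ A : AddSubgroup W, (∀ l ∈ L, ∀ w ∈ A, l • w ∈ A) → A = ⊥ ∨ A = ⊤) (f : Module.End F W) :
    ∃ g ∈ Subring.closure (ops W L), ∀ w, f w = g w := by
  classical
  let R := Subring.closure (ops W L)
  have hsim : IsSimpleModule R W := by
    rw [isSimpleModule_iff]
    refine { exists_pair_ne := ⟨⊥, ⊤, bot_ne_top⟩, eq_bot_or_eq_top := fun A => ?_ }
    rcases irr A.toAddSubgroup (fun s hs w hw =>
      A.smul_mem (⟨_, Subring.subset_closure (mem_ops (W := W) hs)⟩ : R) hw) with h1 | h1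
    · left
      ext w
      rw [← Submodule.mem_toAddSubgroup, h1]; rfl
    · right
      ext w
      rw [← Submodule.mem_toAddSubgroup, h1]
      exact ⟨fun _ => trivial, fun _ => trivial⟩
  obtain ⟨r, hr⟩ := Cfsg.Agent.Omega.NO1.Comp.simple_density (R := R) (M := W) (f : W →+ W) (by
    intro d m
    obtain ⟨c, hc⟩ := D.sch (d : W →+ W) (fun l hl w =>
      map_smul d (⟨_, Subring.subset_closure (mem_ops (W := W) hl)⟩ : R) w)
    have h1 : ∀ w, d w = c • w := hc
    rw [h1, h1]
    exact map_smul f c m)
  exact ⟨r, r.2, hr⟩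

end FD

/-- independence of weight vectors -/
theorem indep_of_weights {ι κ F A : Type*} [Field F] [AddCommGroup A] [Module F A] (x : ι → A) (hx : ∀ i, x i ≠ 0)
    (T : κ → A →ₗ[F] A) (c : κ → ι → F) (hT : ∀ k i, T k (x i) = c k i • x i)
    (hc : ∀ i j, (∀ k, c k i = c k j) → i = j) : LinearIndependent F x := by
  classical
  have key : ∀ (s : Finset ι) (g : ι → F), ∑ i ∈ s, g i • x i = 0 → ∀ i ∈ s, g i = 0 := by
    intro s
    induction s using Finset.induction_on with
    | empty => intro g _ i hi; exact absurd hi (Finset.notMem_empty i)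
    | insert a s ha ih =>
      intro g hg
      rw [Finset.sum_insert ha] at hg
      have h1 : ∀ i ∈ s, g i = 0 := by
        intro i hi
        have hia : i ≠ a := fun h => ha (h ▸ hi)
        obtain ⟨k, hk⟩ : ∃ k, c k i ≠ c k a := by
          by_contra hcon
          push Not at hcon
          exact hia (hc i a hcon)
        have h2 : g a • c k a • x a + ∑ i ∈ s, g i • c k i • x i = 0 := by
          have h3 := congrArg (T k) hg
          rw [map_add, map_smul, hT, map_sum, map_zero] at h3
          rw [← h3]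
          congr 1
          apply Finset.sum_congr rfl
          intro i _
          rw [map_smul, hT]
        have h4 : ∑ i ∈ s, (g i * (c k i - c k a)) • x i = 0 := by
          have h5 : c k a • (g a • x a + ∑ i ∈ s, g i • x i) = 0 := by rw [hg, smul_zero]
          rw [smul_add, Finset.smul_sum] at h5
          have h6 : (∑ i ∈ s, g i • c k i • x i) - ∑ i ∈ s, c k a • g i • x i = 0 := by
            have h7 : (g a • c k a • x a + ∑ i ∈ s, g i • c k i • x i) -
              (c k a • g a • x a + ∑ i ∈ s, c k a • g i • x i) = 0 := by rw [h2, h5, sub_zero]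
            rw [smul_comm (c k a) (g a) (x a)] at h7
            rwa [add_sub_add_left_eq_sub] at h7
          rw [← Finset.sum_sub_distrib] at h6
          rw [← h6]
          apply Finset.sum_congr rfl
          intro i _
          rw [smul_smul, smul_smul, ← sub_smul]
          congr 1
          ring
        have h8 := ih (fun i => g i * (c k i - c k a)) h4 i hi
        rcases mul_eq_zero.1 h8 with h9 | h9
        · exact h9
        · exact absurd (sub_eq_zero.1 h9) hk
      intro i hi
      rcases Finset.mem_insert.1 hi with rfl | hi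
      · have h2 : ∑ j ∈ s, g j • x j = 0 := Finset.sum_eq_zero (fun j hj => by rw [h1 j hj, zero_smul])
        rw [h2, add_zero] at hg
        exact (smul_eq_zero.1 hg).resolve_right (hx i)
      · exact h1 i hi
  rw [linearIndependent_iff']
  exact key

section LW

variable {p r s n : ℕ} {G : Type v} {W : Type u} {Y U : Type*} [Group G] [Finite G] [AddCommGroup W] [Finite W]
    [DistribMulAction G W] [Group Y] [Finite Y] [AddCommGroup U] [Finite U] [DistribMulAction Y U]
    {K L Z : Subgroup G} {π : G →* Y} {a : L →* Multiplicative U} (h : LW (W := W) p r s n K L Z π a)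
    {F : Type u} [Field F] [Finite F] [Module F W] (D : FD (W := W) F L)

include h D

theorem Z_scal {z : G} (hz : z ∈ Z) : ∃ c : F, ∀ w : W, z • w = c • w :=
  D.sch (DistribSMul.toAddMonoidHom W z) (fun l hl w => h.scal z hz l hl w)

theorem a_eq_iff (l l' : L) : a l = a l' ↔ (l : G) * (l' : G)⁻¹ ∈ Z := by
  have h1 := h.ker (l * l'⁻¹)
  rw [map_mul, map_inv, mul_inv_eq_one] at h1
  exact h1

/-- two elements of a coset of `Z` are proportional -/
theorem op_of_a {l l' : L} (hl : a l = a l') : ∃ c : F, D.op l = c • D.op l' := by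
  obtain ⟨c, hc⟩ := Z_scal h D ((a_eq_iff h D l l').1 hl)
  refine ⟨c, ?_⟩
  ext w
  rw [LinearMap.smul_apply, FD.op_apply, FD.op_apply, ← hc, smul_smul, inv_mul_cancel_right]

theorem a_of_op {l l' : L} {c : F} (hc : D.op l = c • D.op l') : a l = a l' := by
  rw [a_eq_iff h D]
  apply h.nd _ (L.mul_mem l.2 (L.inv_mem l'.2))
  intro m hm w
  have h1 : ∀ w : W, (l : G) • w = c • (l' : G) • w := fun w => LinearMap.congr_fun hc w
  rw [mul_smul, mul_smul, h1, h1, smul_inv_smul, smul_inv_smul, D.lin m hm]

/-- the commutator scalar -/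
theorem exists_comm (l l' : L) : ∃ c : F, D.op l * D.op l' = c • (D.op l' * D.op l) := by
  obtain ⟨c, hc⟩ := Z_scal h D (h.comm l l.2 l' l'.2)
  refine ⟨c, ?_⟩
  ext w
  rw [LinearMap.smul_apply, Module.End.mul_apply, Module.End.mul_apply, FD.op_apply, FD.op_apply, FD.op_apply,
    FD.op_apply, ← hc, smul_smul, smul_smul, smul_smul]
  congr 1
  rw [commutatorElement_def]
  group

/-- a representative in `L` of an element of `U` -/
noncomputable def rep (h : LW (W := W) p r s n K L Z π a) (u : U) : L := (h.surj (Multiplicative.ofAdd u)).choose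

theorem a_rep (u : U) : a (rep h u) = Multiplicative.ofAdd u := (h.surj (Multiplicative.ofAdd u)).choose_spec

theorem op_rep (l : L) : ∃ c : F, D.op l = c • D.op (rep h (Multiplicative.toAdd (a l))) :=
  op_of_a h D (by rw [a_rep h D]; rfl)

/-- conjugation by an operator -/
def cj (S T : Module.End F W) : Module.End F W →ₗ[F] Module.End F W where
  toFun A := S * A * T
  map_add' A B := by rw [mul_add, add_mul]
  map_smul' c A := by rw [mul_smul_comm, smul_mul_assoc, RingHom.id_apply]

theorem conj_rep (l l' : L) {c : F} (hc : D.op l * D.op l' = c • (D.op l' * D.op l)) :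
    D.op l * D.op l' * D.op l⁻¹ = c • D.op l' := by
  rw [hc, smul_mul_assoc, mul_assoc, D.op_mul_inv, mul_one]

/-- the weights separate the cosets -/
theorem sep {l' l'' : L} (hc : ∀ l : L, ∃ c : F, D.op l * D.op l' = c • (D.op l' * D.op l) ∧
    D.op l * D.op l'' = c • (D.op l'' * D.op l)) : a l' = a l'' := by
  rw [a_eq_iff h D]
  apply h.nd _ (L.mul_mem l'.2 (L.inv_mem l''.2))
  intro m hm w
  obtain ⟨c, h1, h2⟩ := hc ⟨m, hm⟩
  have h3 : D.op ⟨m, hm⟩ * (D.op l' * D.op l''⁻¹) = (D.op l' * D.op l''⁻¹) * D.op ⟨m, hm⟩ := by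
    have h4 : D.op l''⁻¹ * D.op ⟨m, hm⟩ = c • (D.op ⟨m, hm⟩ * D.op l''⁻¹) := by
      calc D.op l''⁻¹ * D.op ⟨m, hm⟩ = D.op l''⁻¹ * (D.op ⟨m, hm⟩ * D.op l'') * D.op l''⁻¹ := by
            rw [mul_assoc, mul_assoc, D.op_mul_inv, mul_one]
        _ = D.op l''⁻¹ * (c • (D.op l'' * D.op ⟨m, hm⟩)) * D.op l''⁻¹ := by rw [h2]
        _ = c • ((D.op l''⁻¹ * D.op l'') * D.op ⟨m, hm⟩ * D.op l''⁻¹) := by
            rw [mul_smul_comm, smul_mul_assoc]
            simp only [mul_assoc]
        _ = _ := by rw [D.op_inv_mul, one_mul]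
    rw [← mul_assoc, h1, smul_mul_assoc, mul_assoc, mul_assoc, h4, mul_smul_comm]
  have h5 := LinearMap.congr_fun h3 w
  simp only [Module.End.mul_apply, FD.op_apply, Subgroup.coe_inv] at h5
  rw [mul_smul, mul_smul]
  exact h5.symm

theorem indep : LinearIndependent F (fun u : U => D.op (rep h u)) := by
  have := h.nt
  choose c hc using fun l l' : L => exists_comm h D l l'
  refine indep_of_weights (κ := L) _ (fun u => D.op_ne _) (fun l => cj (D.op l) (D.op l⁻¹))
    (fun l u => c l (rep h u)) (fun l u => conj_rep h D _ _ (hc _ _)) ?_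
  intro u u' huu
  have h1 := sep h D (l' := rep h u) (l'' := rep h u') (fun l => ⟨c l (rep h u), hc _ _, by
    rw [huu l]; exact hc _ _⟩)
  rw [a_rep h D, a_rep h D] at h1
  exact h1

theorem op_mem_span (l : L) : D.op l ∈ Submodule.span F (Set.range (fun u : U => D.op (rep h u))) := by
  obtain ⟨c, hc⟩ := op_rep h D l
  rw [hc]
  exact Submodule.smul_mem _ _ (Submodule.subset_span ⟨_, rfl⟩)

theorem span_top : Submodule.span F (Set.range (fun u : U => D.op (rep h u))) = ⊤ := by
  have := h.nt
  rw [eq_top_iff]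
  intro f _
  obtain ⟨g, hg, hfg⟩ := D.dens h.irr f
  have key : ∀ g ∈ Subring.closure (ops W L), ∃ A ∈ Submodule.span F (Set.range (fun u : U => D.op (rep h u))),
      ∀ w, A w = g w := by
    intro g hg
    induction hg using Subring.closure_induction with
    | mem x hx =>
      obtain ⟨y, hy, hxy⟩ := hx
      exact ⟨D.op ⟨y, hy⟩, op_mem_span h D _, fun w => (hxy w).symm⟩
    | zero => exact ⟨0, Submodule.zero_mem _, fun w => rfl⟩
    | one => exact ⟨D.op 1, op_mem_span h D _, fun w => by rw [map_one]; rfl⟩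
    | add x y _ _ hx hy =>
      obtain ⟨A, hA, h1⟩ := hx
      obtain ⟨B, hB, h2⟩ := hy
      exact ⟨A + B, Submodule.add_mem _ hA hB, fun w => by
        rw [LinearMap.add_apply, h1, h2]; rfl⟩
    | neg x _ hx =>
      obtain ⟨A, hA, h1⟩ := hx
      exact ⟨-A, Submodule.neg_mem _ hA, fun w => by rw [LinearMap.neg_apply, h1]; rfl⟩
    | mul x y _ _ hx hy =>
      obtain ⟨A, hA, h1⟩ := hx
      obtain ⟨B, hB, h2⟩ := hy
      refine ⟨A * B, ?_, fun w => by rw [Module.End.mul_apply, h2, h1]; rfl⟩
      have h3 := Submodule.mul_mem_mul hA hB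
      rw [Submodule.span_mul_span] at h3
      refine Submodule.span_le.2 ?_ h3
      rintro _ ⟨_, ⟨u, rfl⟩, _, ⟨u', rfl⟩, rfl⟩
      show D.op (rep h u) * D.op (rep h u') ∈ _
      rw [← map_mul]
      exact op_mem_span h D _
  obtain ⟨A, hA, hAg⟩ := key g hg
  have : f = A := by
    ext w
    rw [hfg, hAg]
  rw [this]
  exact hA

/-- the basis of the coset representatives -/
noncomputable def bas : Basis U F (Module.End F W) := Basis.mk (indep h D) (span_top h D).ge

@[simp] theorem bas_apply (u : U) : bas h D u = D.op (rep h u) := Basis.mk_apply _ _ _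

theorem finrank_eq : finrank F W = s ^ n := by
  have h1 := Module.finrank_eq_nat_card_basis (bas h D)
  rw [h.card, Module.finrank_linearMap] at h1
  have h2 : finrank F W * finrank F W = s ^ n * s ^ n := by rw [h1]; ring
  exact Nat.mul_self_inj.1 h2

theorem charP : CharP F r := by
  have := h.nt
  obtain ⟨w, hw⟩ := exists_ne (0 : W)
  obtain ⟨q, hq⟩ := CharP.exists F
  have h1 : ((r : ℕ) : F) = 0 := by
    have h2 : ((r : ℕ) : F) • w = 0 := by
      rw [Nat.cast_smul_eq_nsmul, h.expW]
    exact (smul_eq_zero.1 h2).resolve_right hw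
  have h3 : q ∣ r := (CharP.cast_eq_zero_iff F q r).1 h1
  have h4 : q ≠ 1 := CharP.char_ne_one F q
  rcases (Nat.dvd_prime h.hr).1 h3 with h5 | h5
  · exact absurd h5 h4
  · rw [← h5]; exact hq

theorem exists_card : ∃ f, 1 ≤ f ∧ Nat.card F = r ^ f := by
  have := charP h D
  have := Fintype.ofFinite F
  have := Fact.mk h.hr
  obtain ⟨m, -, hm⟩ := FiniteField.card F r
  exact ⟨m, m.2, by rw [Nat.card_eq_fintype_card, hm]⟩

theorem card_W : Nat.card W = Nat.card F ^ (s ^ n) := by
  rw [← finrank_eq h D]
  exact Module.natCard_eq_pow_finrank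

theorem dvd_card : s ∣ Nat.card F - 1 := by
  have := h.nt
  obtain ⟨u, hu⟩ : ∃ u : U, u ≠ 0 := by
    by_contra hcon
    push Not at hcon
    have h1 : Nat.card U = 1 := by
      have : Subsingleton U := ⟨fun x y => by rw [hcon x, hcon y]⟩
      exact Nat.card_of_subsingleton 0
    rw [h.card] at h1
    have h2 := h.hs.one_lt
    have h3 : 1 < s ^ (2 * n) := Nat.one_lt_pow (by have := h.hn; omega) h2
    omega
  have h1 : (rep h u : G) ∉ Z := by
    intro h2
    apply hu
    have h3 := (h.ker (rep h u)).2 h2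
    rw [a_rep h D] at h3
    exact h3
  obtain ⟨l, hl⟩ : ∃ l : L, ∀ c : F, D.op l * D.op (rep h u) = c • (D.op (rep h u) * D.op l) → c ≠ 1 := by
    by_contra hcon
    push Not at hcon
    apply h1
    apply h.nd _ (rep h u).2
    intro m hm w
    obtain ⟨c, hc, rfl⟩ := hcon ⟨m, hm⟩
    rw [one_smul] at hc
    exact (LinearMap.congr_fun hc w).symm
  obtain ⟨c, hc⟩ := exists_comm h D l (rep h u)
  have hc1 := hl c hc
  have hpow : ∀ k : ℕ, D.op l ^ k * D.op (rep h u) = c ^ k • (D.op (rep h u) * D.op l ^ k) := by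
    intro k
    induction k with
    | zero => rw [pow_zero, pow_zero, one_mul, mul_one, one_smul]
    | succ k ih =>
      rw [pow_succ', mul_assoc, ih, mul_smul_comm, ← mul_assoc, hc, smul_mul_assoc, smul_smul, mul_assoc,
        pow_succ]
  have h4 : c ^ s = 1 := by
    have h5 := hpow s
    rw [← map_pow] at h5
    have h6 : D.op (l ^ s) * D.op (rep h u) = D.op (rep h u) * D.op (l ^ s) := by
      ext w
      exact h.scal _ (by rw [Subgroup.coe_pow]; exact h.expL l l.2) _ (rep h u).2 w
    rw [h6] at h5
    have h7 : D.op (rep h u) * D.op (l ^ s) = D.op (rep h u * l ^ s) := by rw [map_mul]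
    rw [h7] at h5
    have h8 : (1 - c ^ s) • D.op (rep h u * l ^ s) = 0 := by rw [sub_smul, one_smul, ← h5, sub_self]
    exact (sub_eq_zero.1 ((smul_eq_zero.1 h8).resolve_right (D.op_ne _))).symm
  have hc0 : c ≠ 0 := by
    intro h0
    rw [h0, zero_pow h.hs.ne_zero] at h4
    exact zero_ne_one h4
  have h9 : orderOf (Units.mk0 c hc0) = s := by
    have := Fact.mk h.hs
    apply orderOf_eq_prime
    · ext; simpa using h4
    · intro h10; apply hc1; simpa using congrArg Units.val h10
  rw [← Nat.card_units, ← h9]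
  exact orderOf_dvd_natCard _

/-- an operator whose conjugation preserves the lines of the basis is a multiple of an element of `L` -/
theorem weight (d : Module.End F W) (hd0 : d ≠ 0) (hd : ∀ l : L, ∃ c : F, D.op l * d = c • (d * D.op l)) :
    ∃ (c : F) (l : L), d = c • D.op l := by
  classical
  have := Fintype.ofFinite U
  choose c hc using fun l l' : L => exists_comm h D l l'
  choose e he using hd
  have h1 := (bas h D).sum_repr d
  obtain ⟨u, hu⟩ : ∃ u, (bas h D).repr d u ≠ 0 := by
    by_contra hcon
    push Not at hcon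
    apply hd0
    rw [← h1]
    exact Finset.sum_eq_zero (fun u _ => by rw [hcon, zero_smul])
  have h2 : ∀ (l : L) (v : U), (bas h D).repr d v ≠ 0 → c l (rep h v) = e l := by
    intro l v hv
    have h3 : (∑ v, (bas h D).repr d v • (c l (rep h v) • D.op (rep h v))) = e l • d := by
      have h4 : D.op l * d * D.op l⁻¹ = e l • d := by
        rw [he, smul_mul_assoc, mul_assoc, D.op_mul_inv, mul_one]
      rw [← h4]
      conv_rhs => rw [← h1]
      rw [Finset.mul_sum, Finset.sum_mul]
      apply Finset.sum_congr rfl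
      intro v _
      rw [bas_apply, mul_smul_comm, smul_mul_assoc, conj_rep h D _ _ (hc _ _)]
    have h5 : (bas h D).repr (∑ v, (bas h D).repr d v • (c l (rep h v) • D.op (rep h v))) v =
      (bas h D).repr (e l • d) v := by rw [h3]
    rw [map_sum, Finsupp.finsetSum_apply, Finset.sum_eq_single v] at h5
    · rw [map_smul, map_smul, ← bas_apply h D, Basis.repr_self, Finsupp.smul_apply, Finsupp.smul_apply,
        Finsupp.single_eq_same, map_smul, Finsupp.smul_apply, smul_eq_mul, smul_eq_mul, smul_eq_mul, mul_one,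
        mul_comm] at h5
      exact mul_right_cancel₀ hv h5
    · intro b _ hb
      rw [map_smul, map_smul, ← bas_apply h D, Basis.repr_self, Finsupp.smul_apply, Finsupp.smul_apply,
        Finsupp.single_eq_of_ne hb.symm, smul_zero, smul_zero]
    · intro hv; exact absurd (Finset.mem_univ v) hv
  refine ⟨(bas h D).repr d u, rep h u, ?_⟩
  refine h1.symm.trans ?_
  rw [Finset.sum_eq_single u]
  · rw [bas_apply]
  · intro v _ hvu
    by_cases hv : (bas h D).repr d v = 0
    · rw [hv, zero_smul]
    · exfalso
      apply hvu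
      have h3 := sep h D (l' := rep h v) (l'' := rep h u) (fun l => ⟨c l (rep h v), hc _ _, by
        rw [h2 l v hv, ← h2 l u hu]; exact hc _ _⟩)
      rw [a_rep h D, a_rep h D] at h3
      exact h3
  · intro hv; exact absurd (Finset.mem_univ u) hv

end LW

end Cfsg.Agent.H684.GW
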