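import Mathlib

/-!
# The trace of an element of order `p` on an abelian `p'`-group (helper684)
-/

set_option autoImplicit false
set_option linter.unusedSectionVars false

namespace Cfsg.Agent.H684.GW

variable {U Y : Type*} [Group Y] [AddCommGroup U] [Finite U] [DistribMulAction Y U]

/-- the trace -/
def tr (p : ℕ) (y : Y) : U →+ U where
  toFun u := ∑ i ∈ Finset.range p, y ^ i • u
  map_zero' := Finset.sum_eq_zero (fun i _ => smul_zero _)
  map_add' u v := by
    rw [← Finset.sum_add_distrib]
    exact Finset.sum_congr rfl (fun i _ => smul_add _ _ _)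

theorem smul_tr {p : ℕ} {y : Y} (hy : y ^ p = 1) (u : U) : y • tr p y u = tr p y u := by
  show y • ∑ i ∈ Finset.range p, y ^ i • u = ∑ i ∈ Finset.range p, y ^ i • u
  rw [Finset.smul_sum]
  have h1 : ∀ i ∈ Finset.range p, y • y ^ i • u = y ^ (i + 1) • u := fun i _ => by rw [pow_succ', mul_smul]
  rw [Finset.sum_congr rfl h1]
  have h2 := Finset.sum_range_succ' (fun i => y ^ i • u) p
  have h3 := Finset.sum_range_succ (fun i => y ^ i • u) p
  rw [h2] at h3
  simp only [pow_zero, hy] at h3
  exact add_right_cancel h3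

theorem pow_smul_of_fix {y : Y} {u : U} (hu : y • u = u) (i : ℕ) : y ^ i • u = u := by
  induction i with
  | zero => rw [pow_zero, one_smul]
  | succ i ih => rw [pow_succ, mul_smul, hu, ih]

theorem tr_fix {p : ℕ} {y : Y} {u : U} (hu : y • u = u) : tr p y u = p • u := by
  show ∑ i ∈ Finset.range p, y ^ i • u = p • u
  rw [Finset.sum_congr rfl (fun i _ => pow_smul_of_fix hu i), Finset.sum_const, Finset.card_range]

theorem card_trace {p : ℕ} {y : Y} (hy : y ^ p = 1) (hcop : Nat.Coprime p (Nat.card U)) :
    Nat.card {u : U // ∑ i ∈ Finset.range p, y ^ i • u = 0} * Nat.card {u : U // y • u = u} = Nat.card U := by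
  have h1 : Nat.card {u : U // ∑ i ∈ Finset.range p, y ^ i • u = 0} = Nat.card (tr (U := U) p y).ker :=
    Nat.card_congr (Equiv.subtypeEquivRight fun u => Iff.rfl)
  have h2 : Nat.card {u : U // y • u = u} = Nat.card (tr (U := U) p y).range := by
    apply Nat.card_congr
    apply Equiv.subtypeEquivRight
    intro u
    constructor
    · intro hu
      -- `u = p (q u)` with `q` the inverse of `p`
      obtain ⟨q, hq⟩ : ∃ q : ℤ, ((p : ℤ) * q) • u = u := by
        refine ⟨Nat.gcdA p (Nat.card U), ?_⟩
        have h4 := Nat.gcd_eq_gcd_ab p (Nat.card U)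
        rw [hcop.gcd_eq_one, Nat.cast_one] at h4
        have h5 : ((Nat.card U : ℤ) * Nat.gcdB p (Nat.card U)) • u = 0 := by
          rw [mul_comm, mul_smul, natCast_zsmul, card_nsmul_eq_zero', smul_zero]
        have h6 : (1 : ℤ) • u = u := one_smul _ _
        rw [h4, add_smul, h5, add_zero] at h6
        exact h6
      refine ⟨q • u, ?_⟩
      have h3 : y • (q • u) = q • u := by rw [smul_comm, hu]
      rw [tr_fix h3, ← natCast_zsmul, smul_smul, hq]
    · rintro ⟨v, rfl⟩
      exact smul_tr hy v
  rw [h1, h2, ← AddSubgroup.index_ker, AddSubgroup.card_mul_index]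

end Cfsg.Agent.H684.GW
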